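import Groth.Agent.AlgSpLib.Quot
import Groth.Agent.AlgSpLib.SheafLemmas
import Groth.Prelude.Def_AlgSp3
import Groth.Prelude.Def_CInt
import Mathlib.AlgebraicGeometry.Morphisms.Smooth

/-!
# The Néron mapping property extends from smooth schemes to smooth algebraic spaces
-/

set_option autoImplicit false
set_option backward.isDefEq.respectTransparency false
set_option backward.isDefEq.respectTransparency.types false
universe u

open CategoryTheory CategoryTheory.Limits AlgebraicGeometry

noncomputable section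

namespace Groth.Agent.NeronSp

open _root_.AlgSp AlgSpLib

variable {S : Scheme.{u}} (U : S.Opens)

/-- The open part of an object. -/
abbrev openPart (W : Over S) : Over S := (Over.map U.ι).obj ((Over.pullback U.ι).obj W)

/-- Its map to the open subscheme. -/
def toOpen (W : Over S) : openPart U W ⟶ Over.mk U.ι := Over.homMk (pullback.snd W.hom U.ι) rfl

theorem bijective (N : Over S)
    (hN : ∀ Y : Over S, Smooth Y.hom →
      Function.Bijective (fun g : Y ⟶ N => (Over.mapPullbackAdj U.ι).counit.app Y ≫ g))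
    (F : Sp S) (hF : IsAlgSpace F) (sF : F ⟶ (yon S).obj (Over.mk (𝟙 S))) (hsm : LocP @Smooth sF) :
    Function.Bijective (fun φ : F ⟶ (yon S).obj N =>
      (Limits.prod.fst : F ⨯ (yon S).obj (Over.mk U.ι) ⟶ F) ≫ φ) := by
  obtain ⟨W, g, hget, hgs⟩ := hF.atlas
  let h : W ⟶ Over.mk (𝟙 S) := (yon S).preimage (g ≫ sF)
  have hWsm : Smooth W.hom := by
    have h1 : Smooth h.left := hsm g (𝟙 _) h hget (repWith_id _ _) (by simp [h])
    have h2 : W.hom = h.left := by simpa using (Over.w h).symm
    rw [h2]; exact h1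
  haveI : Sheaf.IsLocallySurjective g :=
    isLocallySurjective_of_repWith g (repWith_mono (fun _ _ f hf => by haveI := hf; infer_instance) hget)
      (repWith_mono (fun _ _ f hf => by haveI := hf; infer_instance) hget) hgs
  haveI : Epi g := inferInstance
  obtain ⟨R, r₁, r₂, sq⟩ := exists_pullback hF.diag g g
  have hRsm : Smooth R.hom := by
    have h1 : Etale r₁.left := hget.2 g ((yon S).map r₂) r₁ sq.flip
    rw [← Over.w r₁]
    infer_instance
  let c := (Over.mapPullbackAdj U.ι).counit
  let α : (yon S).obj (openPart U W) ⟶ F ⨯ (yon S).obj (Over.mk U.ι) :=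
    prod.lift ((yon S).map (c.app W) ≫ g) ((yon S).map (toOpen U W))
  have hα : ∀ (a : W ⟶ N) (φ : F ⟶ (yon S).obj N), g ≫ φ = (yon S).map a →
      α ≫ prod.fst ≫ φ = (yon S).map (c.app W ≫ a) := fun a φ e => by
    rw [prod.lift_fst_assoc, Category.assoc, e, Functor.map_comp]
  refine ⟨fun φ φ' e => ?_, fun ψ => ?_⟩
  · obtain ⟨a, ha⟩ := (yon S).map_surjective (g ≫ φ)
    obtain ⟨a', ha'⟩ := (yon S).map_surjective (g ≫ φ')
    have e' : a = a' := (hN W hWsm).1 ((yon S).map_injective
      (((hα a φ ha.symm).symm.trans (congrArg (α ≫ ·) e)).trans (hα a' φ' ha'.symm)))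
    rw [← cancel_epi g, ← ha, ← ha', e']
  · obtain ⟨w, hw⟩ := (yon S).map_surjective (α ≫ ψ)
    obtain ⟨a, ha⟩ := (hN W hWsm).2 w
    change c.app W ≫ a = w at ha
    have hr : r₁ ≫ a = r₂ ≫ a := by
      refine (hN R hRsm).1 ?_
      let m₁ : openPart U R ⟶ openPart U W := (Over.map U.ι).map ((Over.pullback U.ι).map r₁)
      let m₂ : openPart U R ⟶ openPart U W := (Over.map U.ι).map ((Over.pullback U.ι).map r₂)
      have e1 : c.app R ≫ r₁ = m₁ ≫ c.app W := (c.naturality r₁).symm
      have e2 : c.app R ≫ r₂ = m₂ ≫ c.app W := (c.naturality r₂).symm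
      have em : ∀ (r : R ⟶ W), (Over.map U.ι).map ((Over.pullback U.ι).map r) ≫ toOpen U W = toOpen U R := fun r =>
        Over.OverMorphism.ext (pullback.lift_snd _ _ _)
      have eα : (yon S).map m₁ ≫ α = (yon S).map m₂ ≫ α := by
        apply Limits.prod.hom_ext
        · simp only [α, Category.assoc, prod.lift_fst]
          rw [← Functor.map_comp_assoc, ← Functor.map_comp_assoc, ← e1, ← e2, Functor.map_comp_assoc,
            Functor.map_comp_assoc, sq.w]
        · simp only [α, Category.assoc, prod.lift_snd]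
          rw [← Functor.map_comp, ← Functor.map_comp, em, em]
      show c.app R ≫ r₁ ≫ a = c.app R ≫ r₂ ≫ a
      rw [reassoc_of% e1, reassoc_of% e2, ha]
      apply (yon S).map_injective
      rw [Functor.map_comp, Functor.map_comp, hw, reassoc_of% eα]
    obtain ⟨hcol⟩ := isColimit_of_isPullback sq
    obtain ⟨φ, hφ⟩ : ∃ φ : F ⟶ (yon S).obj N, g ≫ φ = (yon S).map a :=
      ⟨Cofork.IsColimit.desc hcol ((yon S).map a) (by rw [← Functor.map_comp, ← Functor.map_comp, hr]),
        Cofork.IsColimit.π_desc' hcol _ _⟩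
    refine ⟨φ, (J S).hom_ext_uliftYoneda.{u + 1} fun T x => ?_⟩
    obtain ⟨Rc, hRc, hl⟩ := exists_lift_cover g (x ≫ prod.fst)
    obtain ⟨u₀, hu₀⟩ := (yon S).map_surjective (x ≫ prod.snd)
    refine hom_ext_cover hRc fun Z k hk => ?_
    obtain ⟨l, hl'⟩ := hl k hk
    obtain ⟨l, rfl⟩ := (yon S).map_surjective l
    let kk : Over.mk (k ≫ T.hom) ⟶ T := Over.homMk k rfl
    let z : Over.mk (k ≫ T.hom) ⟶ openPart U W :=
      Over.homMk (pullback.lift l.left (k ≫ u₀.left) (by
        rw [Over.w l, Category.assoc, show u₀.left ≫ U.ι = T.hom from Over.w u₀]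
        rfl)) (by
        show (pullback.lift _ _ _ ≫ pullback.snd W.hom U.ι ≫ U.ι) = k ≫ T.hom
        rw [pullback.lift_snd_assoc, Category.assoc, show u₀.left ≫ U.ι = T.hom from Over.w u₀])
    have hz1 : z ≫ c.app W = l := Over.OverMorphism.ext (by
      rw [Over.comp_left]
      simp [z, c, Over.mapPullbackAdj])
    have hz2 : z ≫ toOpen U W = kk ≫ u₀ := Over.OverMorphism.ext (pullback.lift_snd _ _ _)
    have hz : (yon S).map kk ≫ x = (yon S).map z ≫ α := by
      apply Limits.prod.hom_ext
      · rw [Category.assoc, Category.assoc, prod.lift_fst, ← Category.assoc ((yon S).map z), ← Functor.map_comp,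
          hz1, hl']
      · rw [Category.assoc, Category.assoc, prod.lift_snd, ← hu₀, ← Functor.map_comp, ← Functor.map_comp, hz2]
    show (yon S).map kk ≫ x ≫ prod.fst ≫ φ = (yon S).map kk ≫ x ≫ ψ
    rw [reassoc_of% hz, reassoc_of% hz, hα a φ hφ, ha, hw]

end Groth.Agent.NeronSp
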